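import Cfsg.Agent.Alt12Inv.Fusion.Basic

/-!
The action of the normalizer of the translations on the codes, and the set of fused codes.
-/

set_option autoImplicit false
set_option linter.unusedSectionVars false
set_option linter.style.haveILetI false
set_option maxRecDepth 100000

namespace CfsgLib.Alt12Inv

open Subgroup

universe u

variable {G : Type u} [Group G] [Finite G] {α : G} (F : Frame α)

/-- A permutation of the codes induced by the group. -/
structure Frame.Sym where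
  /-- The element. -/
  n : G
  /-- The map of the codes. -/
  s : Fin 64 → Fin 64
  spec : ∀ u, n * F.a u * n⁻¹ = F.a (s u)

theorem Frame.exists_sym {n : G} (h : ∀ u, ∃ u', n * F.a u * n⁻¹ = F.a u') : ∃ σ : F.Sym, σ.n = n :=
  ⟨⟨n, fun u => Classical.choose (h u), fun u => Classical.choose_spec (h u)⟩, rfl⟩

variable {F}

theorem Frame.Sym.add (σ : F.Sym) (u v : Fin 64) : σ.s (vadd u v) = vadd (σ.s u) (σ.s v) :=
  F.a_injective (by rw [← F.a_mul, ← σ.spec, ← σ.spec, ← σ.spec, ← F.a_mul]; group)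

theorem Frame.Sym.bij (σ : F.Sym) : Function.Bijective σ.s :=
  Finite.injective_iff_bijective.1 fun u v h => F.a_injective (by
    have e : σ.n * F.a u * σ.n⁻¹ = σ.n * F.a v * σ.n⁻¹ := by rw [σ.spec, σ.spec, h]
    exact mul_left_cancel (mul_right_cancel e))

theorem Frame.Sym.zero (σ : F.Sym) : σ.s 0 = 0 :=
  F.a_injective (by rw [← σ.spec, F.a_zero]; group)

theorem Frame.Sym.fused (σ : F.Sym) (u : Fin 64) : F.Fused (σ.s u) ↔ F.Fused u := by
  have h : IsConj (F.a u) (F.a (σ.s u)) := isConj_iff.2 ⟨σ.n, σ.spec u⟩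
  exact ⟨fun h1 => IsConj.trans h1 h.symm, fun h1 => IsConj.trans h1 h⟩

/-- The composite of two. -/
def Frame.Sym.comp (σ τ : F.Sym) : F.Sym where
  n := σ.n * τ.n
  s := σ.s ∘ τ.s
  spec u := by
    rw [show σ.n * τ.n * F.a u * (σ.n * τ.n)⁻¹ = σ.n * (τ.n * F.a u * τ.n⁻¹) * σ.n⁻¹ by group, τ.spec,
      σ.spec]
    rfl

variable (F)

/-- The action of the complement. -/
def Frame.symK (k : Fin 8) : F.Sym where
  n := F.ι (rC k)
  s := act k
  spec u := by rw [Frame.a, ← map_inv, ← map_mul, ← map_mul, rC_aC, mul_inv_cancel_right]; rfl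

/-- The rotation of the quadruples. -/
def Frame.symCyc : F.Sym where
  n := F.ι cycC
  s := cycCode
  spec u := by rw [Frame.a, ← map_inv, ← map_mul, ← map_mul, cycC_aC, mul_inv_cancel_right]; rfl

/-- The identity. -/
def Frame.symOne : F.Sym where
  n := 1
  s := id
  spec u := by rw [id, one_mul, inv_one, mul_one]

/-- A power. -/
def Frame.Sym.pow {F : Frame α} (σ : F.Sym) : ℕ → F.Sym
  | 0 => F.symOne
  | k + 1 => (Frame.Sym.pow σ k).comp σ

theorem Frame.Sym.pow_s {F : Frame α} (σ : F.Sym) : ∀ k, (σ.pow k).s = σ.s^[k]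
  | 0 => rfl
  | k + 1 => by
    show (σ.pow k).s ∘ σ.s = _
    rw [Frame.Sym.pow_s σ k, ← Function.iterate_succ]

/-- The fused codes as a truth function. -/
noncomputable def Frame.fusedB (v : Fin 64) : Bool :=
  haveI := Classical.propDecidable (F.Fused v)
  decide (F.Fused v)

theorem Frame.fusedB_iff {v : Fin 64} : F.fusedB v = true ↔ F.Fused v := by
  unfold Frame.fusedB
  exact @decide_eq_true_iff _ (Classical.propDecidable _)

theorem Frame.fusedB_sym (σ : F.Sym) (v : Fin 64) : F.fusedB (σ.s v) = F.fusedB v :=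
  Bool.eq_iff_iff.2 (by rw [F.fusedB_iff, F.fusedB_iff, σ.fused])

theorem countP_sym (σ : F.Sym) (p : Fin 64 → Bool) :
    (List.finRange 64).countP (fun y => p (σ.s y)) = (List.finRange 64).countP p := by
  have hperm : ((List.finRange 64).map σ.s).Perm (List.finRange 64) :=
    (List.perm_ext_iff_of_nodup ((List.nodup_finRange 64).map σ.bij.1) (List.nodup_finRange 64)).2 fun a =>
      ⟨fun _ => List.mem_finRange a, fun _ => List.mem_map.2 ((σ.bij.2 a).imp fun b hb => ⟨List.mem_finRange b, hb⟩)⟩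
  conv_rhs => rw [← hperm.countP_eq, List.countP_map]
  rfl

theorem Frame.cnt2_sym (σ : F.Sym) (x : Fin 64) : cnt2 F.fusedB (σ.s x) = cnt2 F.fusedB x := by
  unfold cnt2
  rw [← countP_sym F σ]
  congr 1
  funext y
  rw [← σ.add, F.fusedB_sym, F.fusedB_sym]

theorem Frame.cnt3_sym (σ : F.Sym) (x : Fin 64) : cnt3 F.fusedB (σ.s x) = cnt3 F.fusedB x := by
  have hperm : (((List.finRange 64).filter F.fusedB).map σ.s).Perm ((List.finRange 64).filter F.fusedB) :=
    (List.perm_ext_iff_of_nodup (((List.nodup_finRange 64).filter _).map σ.bij.1)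
      ((List.nodup_finRange 64).filter _)).2 fun a => by
      rw [List.mem_map, List.mem_filter]
      constructor
      · rintro ⟨b, hb, rfl⟩
        exact ⟨List.mem_finRange _, by rw [F.fusedB_sym]; exact (List.mem_filter.1 hb).2⟩
      · rintro ⟨-, ha⟩
        obtain ⟨b, rfl⟩ := σ.bij.2 a
        rw [F.fusedB_sym] at ha
        exact ⟨b, List.mem_filter.2 ⟨List.mem_finRange _, ha⟩, rfl⟩
  unfold cnt3
  rw [← (hperm.map fun y => cnt2 F.fusedB (vadd (σ.s x) y)).sum_eq, List.map_map]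
  congr 1
  refine List.map_congr_left fun y _ => ?_
  show cnt2 F.fusedB (vadd (σ.s x) (σ.s y)) = cnt2 F.fusedB (vadd x y)
  rw [← σ.add, F.cnt2_sym]

theorem Frame.fused_centre : F.Fused 21 := by
  show IsConj α (F.a 21); rw [F.a_centre]

theorem Frame.exists_sym_fused {x : Fin 64} (h : F.Fused x) : ∃ σ : F.Sym, σ.s 21 = x := by
  have h1 : IsConj (F.a 21) (F.a x) := by rw [F.a_centre]; exact h
  obtain ⟨n, hn, hnx⟩ := F.fusion h1
  obtain ⟨σ, hσ⟩ := F.exists_sym hn
  exact ⟨σ, F.a_injective (by rw [← σ.spec, hσ, hnx])⟩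

theorem Frame.not_fused_zero : ¬ F.Fused 0 := fun h => F.ne_one (by
  have h1 : IsConj α (F.a 0) := h
  rw [F.a_zero] at h1
  exact isConj_one_left.1 h1)

theorem Frame.not_fused_five : ¬ F.Fused 5 := by
  intro h
  obtain ⟨g, hg⟩ := isConj_iff.1 (show IsConj (F.a 5) α from h.symm)
  set y := g * F.ι ⟨octo, octo_mem⟩ * g⁻¹ with hy
  have h4 : y ^ 4 = α := by
    rw [hy, conj_pow, ← map_pow, octo_pow]; exact hg
  obtain ⟨k, hk⟩ := (F.mem_range (g := y)).2 (h4 ▸ Commute.self_pow y 4)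
  rw [← hk, ← map_pow] at h4
  have h5 := congrArg Subtype.val (F.inj (h4.trans F.centre.symm))
  rw [SubmonoidClass.coe_pow] at h5
  exact not_fourth_power (h5.trans t₀_eq.symm)

theorem Frame.odd_cnt : Odd (cnt1 F.fusedB) := by
  haveI : Fact (Nat.Prime 2) := ⟨Nat.prime_two⟩
  set N := normalizer (F.A : Set G) with hN
  have memN : ∀ n, n ∈ N → ∀ v, ∃ v', n * F.a v * n⁻¹ = F.a v' := fun n hn v => by
    obtain ⟨w, hw⟩ := (mem_normalizer_iff.1 hn (F.a v)).1 ⟨v, rfl⟩
    exact ⟨w, hw.symm⟩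
  have symN : ∀ σ : F.Sym, σ.n ∈ N := fun σ => mem_normalizer_iff.2 fun x => by
    constructor
    · rintro ⟨v, rfl⟩; exact ⟨σ.s v, (σ.spec v).symm⟩
    · rintro ⟨w, hw⟩
      obtain ⟨v, rfl⟩ := σ.bij.2 w
      rw [← σ.spec] at hw
      exact ⟨v, mul_left_cancel (mul_right_cancel hw)⟩
  have hTN : F.T ≤ N := by
    rintro _ ⟨_, ⟨⟨v, k⟩, rfl⟩, rfl⟩
    rw [el, map_mul]
    refine mul_mem (le_normalizer ⟨v, rfl⟩) (symN (F.symK k))
  let N' : Subgroup (ConjAct G) := N.map ConjAct.toConjAct.toMonoidHom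
  have horb : (F.a '' {v | F.Fused v}) = MulAction.orbit N' α := by
    ext x
    constructor
    · rintro ⟨v, hv, rfl⟩
      obtain ⟨σ, hσ⟩ := F.exists_sym_fused hv
      refine ⟨⟨ConjAct.toConjAct σ.n, ⟨σ.n, symN σ, rfl⟩⟩, ?_⟩
      show ConjAct.toConjAct σ.n • α = F.a v
      rw [ConjAct.toConjAct_smul]
      calc σ.n * α * σ.n⁻¹ = σ.n * F.a 21 * σ.n⁻¹ := by rw [F.a_centre]
        _ = F.a v := by rw [σ.spec, hσ]
    · rintro ⟨⟨_, ⟨n, hn, rfl⟩⟩, rfl⟩
      obtain ⟨w, hw⟩ := memN n hn 21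
      rw [F.a_centre] at hw
      exact ⟨w, isConj_iff.2 ⟨n, hw⟩, hw.symm⟩
  have hidx : (MulAction.stabilizer N' α).index = Nat.card {v // F.Fused v} := by
    rw [MulAction.index_stabilizer, ← horb, Set.ncard_image_of_injective _ F.a_injective,
      ← Nat.card_coe_set_eq]
    rfl
  have hodd : Odd (MulAction.stabilizer N' α).index := by
    rw [Nat.odd_iff]
    by_contra hne
    have h2 : 2 ∣ (MulAction.stabilizer N' α).index := by omega
    set T' : Subgroup ↥N' := (F.T.map ConjAct.toConjAct.toMonoidHom).subgroupOf N' with hT'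
    have hle : T' ≤ MulAction.stabilizer N' α := by
      rintro ⟨_, hm⟩ ht
      obtain ⟨t, ht', rfl⟩ := mem_subgroupOf.1 ht
      show ConjAct.toConjAct t • α = α
      rw [ConjAct.toConjAct_smul, mem_centralizer_singleton_iff.1 (F.T_le ht'), mul_inv_cancel_right]
    have h3 : T'.index ∣ (F.T.map ConjAct.toConjAct.toMonoidHom).index :=
      relIndex_dvd_index_of_le (map_mono hTN)
    have h4 : T'.index ∣ F.T.index := h3.trans (dvd_of_eq (index_map_equiv F.T ConjAct.toConjAct))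
    rw [← F.coe_sylow] at h4
    exact F.sylow.not_dvd_index ((h2.trans (index_dvd_of_le hle)).trans h4)
  rw [hidx] at hodd
  convert hodd using 1
  classical
  rw [cnt1, Nat.card_eq_fintype_card, Fintype.card_subtype, List.countP_eq_length_filter,
    ← List.toFinset_card_of_nodup ((List.nodup_finRange 64).filter _)]
  refine congrArg Finset.card (Finset.ext fun v => ?_)
  simp [F.fusedB_iff]

/-- The fused codes form one of five sets. -/
theorem Frame.fused_pattern : ∃ m ∈ five, ∀ v : Fin 64, F.Fused v ↔ Nat.testBit (bitsOf m) v.1 = true := by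
  have hB : ∀ v, F.fusedB v = false ↔ ¬ F.Fused v := fun v => by rw [← F.fusedB_iff, Bool.not_eq_true]
  obtain ⟨m, hm, hf⟩ := pattern F.fusedB (F.fusedB_iff.2 F.fused_centre) ((hB 0).2 F.not_fused_zero)
    (fun k j v => by
      show F.fusedB (act k (cycCode^[j.1] v)) = F.fusedB v
      rw [show cycCode^[j.1] = (F.symCyc.pow j.1).s from (Frame.Sym.pow_s F.symCyc j.1).symm]
      exact (F.fusedB_sym (F.symK k) _).trans (F.fusedB_sym _ v))
    ((hB 5).2 F.not_fused_five) F.odd_cnt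
    (fun x hx => by obtain ⟨σ, rfl⟩ := F.exists_sym_fused (F.fusedB_iff.1 hx); exact F.cnt2_sym σ 21)
    (fun x hx => by obtain ⟨σ, rfl⟩ := F.exists_sym_fused (F.fusedB_iff.1 hx); exact F.cnt3_sym σ 21)
  exact ⟨m, hm, fun v => by rw [← F.fusedB_iff, hf v]⟩

/-- When the fused codes are those of full weight, fusion preserves the weight. -/
theorem Frame.weight_eq (h : ∀ v, F.Fused v ↔ weight v = 3) {v w : Fin 64}
    (hc : IsConj (F.a v) (F.a w)) : weight v = weight w := by
  obtain ⟨n, hn, hnw⟩ := F.fusion hc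
  obtain ⟨σ, hσ⟩ := F.exists_sym hn
  have hw : σ.s v = w := F.a_injective (by rw [← σ.spec, hσ, hnw])
  have hf : F.fusedB = fun u => decide (weight u = 3) := funext fun u =>
    Bool.eq_iff_iff.2 (by rw [F.fusedB_iff, decide_eq_true_iff, h])
  have h1 := F.cnt2_sym σ v
  rw [hf, hw, cnt2_weight, cnt2_weight] at h1
  exact (weight_of_cnt _ _ h1).symm

theorem getD_map {β γ : Type*} (f : β → γ) (l : List β) (i : ℕ) (d : β) :
    (l.map f).getD i (f d) = f (l.getD i d) := by
  simp only [List.getD_eq_getElem?_getD, List.getElem?_map, Option.getD_map]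

theorem Frame.Sym.eq_lin {F : Frame α} (σ : F.Sym) (v : Fin 64) :
    σ.s v = lin [σ.s 1, σ.s 2, σ.s 4, σ.s 8, σ.s 16, σ.s 32] v := by
  have step : ∀ (l : List ℕ) (s : Fin 64),
      σ.s (l.foldl (fun s i => if (v.1 / 2 ^ i) % 2 = 1 then vadd s (([1, 2, 4, 8, 16, 32] : List (Fin 64)).getD i 0) else s) s) =
      l.foldl (fun s i => if (v.1 / 2 ^ i) % 2 = 1 then
        vadd s (([σ.s 1, σ.s 2, σ.s 4, σ.s 8, σ.s 16, σ.s 32] : List (Fin 64)).getD i 0) else s) (σ.s s) := by
    intro l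
    induction l with
    | nil => intro s; rfl
    | cons i l ih =>
      intro s
      simp only [List.foldl_cons]
      rw [ih]
      congr 1
      split_ifs
      · rw [σ.add]
        congr 1
        rw [← getD_map σ.s _ i (0 : Fin 64), σ.zero]
        rfl
      · rfl
  conv_lhs => rw [← lin_id v, lin]
  rw [step, σ.zero]
  rfl

/-- When the fused codes are those of full weight, the rotation of one quadruple is induced. -/
theorem Frame.rot_lift (h : ∀ v, F.Fused v ↔ weight v = 3) :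
    ∃ n, ∀ v, n * F.a v * n⁻¹ = F.a (rotCode v) := by
  obtain ⟨σ, hσ⟩ := F.exists_sym_fused ((h 22).2 (by decide +kernel))
  have hw : ∀ u, weight (σ.s u) = weight u := fun u =>
    (F.weight_eq h (isConj_iff.2 ⟨σ.n, σ.spec u⟩)).symm
  have m1 : ∀ u, weight u = 1 → σ.s u ∈ one₁ := fun u hu => mem_one _ ((hw u).trans hu)
  have e22 : vadd (σ.s 1) (vadd (σ.s 4) (σ.s 16)) = 22 := by
    rw [← σ.add, ← σ.add, ← hσ]; rfl
  have wsum : ∀ u w, weight (vadd u w) = weight (vadd u w) → weight (vadd (σ.s u) (σ.s w)) = weight (vadd u w) :=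
    fun u w _ => by rw [← σ.add, hw]
  obtain ⟨j, r, hjr⟩ := rot_chk _ (m1 1 (by decide +kernel)) _ (m1 2 (by decide +kernel))
    ((wsum 1 2 rfl).trans (by decide +kernel)) _ (m1 4 (by decide +kernel))
    ((wsum 1 4 rfl).trans (by decide +kernel)) _ (m1 8 (by decide +kernel))
    ((wsum 4 8 rfl).trans (by decide +kernel)) _ (m1 16 (by decide +kernel))
    ((wsum 1 16 rfl).trans (by decide +kernel)) ((wsum 4 16 rfl).trans (by decide +kernel)) e22
    _ (m1 32 (by decide +kernel)) ((wsum 16 32 rfl).trans (by decide +kernel))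
  let q : F.Sym := (F.symCyc.pow (j.1 % 3)).comp (if j.1 < 3 then F.symOne else F.symK 4)
  have hq : ∀ v, q.s v = quadPerm j v := fun v => by
    show (F.symCyc.pow (j.1 % 3)).s ((if j.1 < 3 then F.symOne else F.symK 4).s v) = _
    rw [Frame.Sym.pow_s, quadPerm]
    split_ifs <;> rfl
  set σ' := σ.comp q with hσ'
  have hs' : ∀ v, σ'.s v = lin [σ.s 1, σ.s 2, σ.s 4, σ.s 8, σ.s 16, σ.s 32] (quadPerm j v) := fun v => by
    show σ.s (q.s v) = _
    rw [hq, σ.eq_lin]
  set L := σ'.comp (F.symK 3) with hL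
  set R := (F.symK 3).comp σ' with hR
  have hbasis : ∀ i : Fin 6, L.s ⟨2 ^ i.1 % 64, Nat.mod_lt _ (by decide)⟩ =
      rotCode^[r.1 + 1] (R.s ⟨2 ^ i.1 % 64, Nat.mod_lt _ (by decide)⟩) := fun i => by
    show σ'.s (act 3 _) = rotCode^[r.1 + 1] (act 3 (σ'.s _))
    rw [hs', hs']
    exact hjr i
  have radd : ∀ (r : Fin 2) u v, rotCode^[r.1 + 1] (vadd u v) = vadd (rotCode^[r.1 + 1] u) (rotCode^[r.1 + 1] v) := by
    decide +kernel
  have hall : ∀ v, L.s v = rotCode^[r.1 + 1] (R.s v) := by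
    intro v
    conv_rhs => rw [R.eq_lin]
    rw [L.eq_lin]
    have hl : [L.s 1, L.s 2, L.s 4, L.s 8, L.s 16, L.s 32] =
        ([R.s 1, R.s 2, R.s 4, R.s 8, R.s 16, R.s 32] : List (Fin 64)).map rotCode^[r.1 + 1] := by
      simp only [List.map_cons, List.map_nil]
      rw [show L.s 1 = _ from hbasis 0, show L.s 2 = _ from hbasis 1, show L.s 4 = _ from hbasis 2,
        show L.s 8 = _ from hbasis 3, show L.s 16 = _ from hbasis 4, show L.s 32 = _ from hbasis 5]
      rfl
    rw [hl, lin, lin]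
    have r0 : rotCode^[r.1 + 1] 0 = 0 :=
      (by decide +kernel : ∀ r : Fin 2, rotCode^[r.1 + 1] 0 = 0) r
    have step : ∀ (b : List (Fin 64)) (l : List ℕ) (s : Fin 64),
        l.foldl (fun s i => if (v.1 / 2 ^ i) % 2 = 1 then vadd s ((b.map rotCode^[r.1 + 1]).getD i 0) else s)
          (rotCode^[r.1 + 1] s) =
        rotCode^[r.1 + 1] (l.foldl (fun s i => if (v.1 / 2 ^ i) % 2 = 1 then vadd s (b.getD i 0) else s) s) := by
      intro b l
      induction l with
      | nil => intro s; rfl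
      | cons i l ih =>
        intro s
        simp only [List.foldl_cons]
        rw [← ih]
        congr 1
        split_ifs
        · rw [radd]
          congr 1
          have := getD_map rotCode^[r.1 + 1] b i (0 : Fin 64)
          rwa [r0] at this
        · rfl
    have := step [R.s 1, R.s 2, R.s 4, R.s 8, R.s 16, R.s 32] (List.range 6) 0
    rwa [r0] at this
  refine ⟨(L.n * R.n⁻¹) ^ (r.1 + 1), fun v => ?_⟩
  have one : ∀ v, (L.n * R.n⁻¹) * F.a v * (L.n * R.n⁻¹)⁻¹ = F.a (rotCode^[r.1 + 1] v) := fun v => by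
    obtain ⟨u, rfl⟩ := R.bij.2 v
    rw [← hall, ← L.spec, ← R.spec]
    group
  rcases r with ⟨r, hr⟩
  interval_cases r
  · rw [pow_one]; exact one v
  · rw [pow_two, mul_inv_rev,
      show (L.n * R.n⁻¹) * (L.n * R.n⁻¹) * F.a v * ((L.n * R.n⁻¹)⁻¹ * (L.n * R.n⁻¹)⁻¹) =
        (L.n * R.n⁻¹) * ((L.n * R.n⁻¹) * F.a v * (L.n * R.n⁻¹)⁻¹) * (L.n * R.n⁻¹)⁻¹ by group, one, one]
    exact congrArg F.a ((by decide +kernel : ∀ v, rotCode^[2] (rotCode^[2] v) = rotCode v) v)

end CfsgLib.Alt12Inv
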