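import Cfsg.Agent.Alt12Inv.Fusion.Pattern

/-!
Fusion of the translations in a group with coordinates on the centralizer of the involution.
-/

set_option autoImplicit false
set_option linter.unusedSectionVars false
set_option linter.style.haveILetI false
set_option maxRecDepth 100000

namespace CfsgLib.Alt12Inv

open Subgroup

universe u

variable {G : Type u} [Group G] [Finite G] {α : G} (F : Frame α)

theorem Frame.a_mul (v w : Fin 64) : F.a v * F.a w = F.a (vadd v w) := by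
  rw [Frame.a, Frame.a, ← map_mul, aC_mul]; rfl

theorem Frame.a_injective : Function.Injective F.a := fun _ _ h => aC_injective (F.inj h)

theorem Frame.a_zero : F.a 0 = 1 := by rw [Frame.a, aC_zero, map_one]

theorem Frame.a_centre : F.a 21 = α := F.centre

theorem Frame.a_sq (v : Fin 64) : F.a v * F.a v = 1 := by
  rw [F.a_mul, vadd_facts.2.2, F.a_zero]

theorem Frame.mem_range {g : G} : g ∈ F.ι.range ↔ Commute g α := by
  rw [F.range_eq, mem_centralizer_singleton_iff]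
  exact Iff.rfl

theorem Frame.comm_centre (x : ↥C₀) : Commute (F.ι x) α := F.mem_range.1 ⟨x, rfl⟩

theorem Frame.ne_one (F : Frame α) : α ≠ 1 := fun h => by
  have h1 : F.a 21 = F.a 0 := by rw [F.a_centre, F.a_zero, h]
  exact absurd (F.a_injective h1) (by decide)

/-- The translations are their own centralizer. -/
theorem Frame.cent_a {g : G} (h : ∀ v, Commute g (F.a v)) : ∃ v, g = F.a v := by
  obtain ⟨x, rfl⟩ := (F.mem_range (g := g)).2 (by have := h 21; rwa [F.a_centre] at this)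
  obtain ⟨v, rfl⟩ := cent_aC (g := x) fun v => F.inj (by rw [map_mul, map_mul]; exact h v)
  exact ⟨v, rfl⟩

/-- Every 2-subgroup centralizes a conjugate of the involution. -/
theorem Frame.two (F : Frame α) {P : Subgroup G} (hP : IsPGroup 2 P) : ∃ g, ∀ p ∈ P, Commute p (g * α * g⁻¹) := by
  haveI : Fact (Nat.Prime 2) := ⟨Nat.prime_two⟩
  obtain ⟨Q, hQ⟩ := hP.exists_le_sylow
  obtain ⟨g, hg⟩ := MulAction.exists_smul_eq G F.S Q
  refine ⟨g, fun p hp => ?_⟩
  have h1 : p ∈ ((g • F.S : Sylow 2 G) : Subgroup G) := by rw [hg]; exact hQ hp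
  obtain ⟨s, hs, rfl⟩ := h1
  exact (F.comm s hs).map (MulAut.conj g).toMonoidHom

/-- The coordinate Sylow subgroup. -/
def Frame.T : Subgroup G := S₀.map F.ι

theorem Frame.T_le : F.T ≤ centralizer ({α} : Set G) := by
  rw [← F.range_eq]; exact map_le_range _ _

theorem Frame.T_pgroup : IsPGroup 2 ↥F.T := isPGroup_S₀.map _

theorem Frame.card_T : Nat.card ↥F.T = Nat.card ↥(F.S : Subgroup G) := by
  haveI : Fact (Nat.Prime 2) := ⟨Nat.prime_two⟩
  rw [Frame.T, card_map_of_injective F.inj, card_S₀]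
  obtain ⟨Q, hQ⟩ := F.T_pgroup.exists_le_sylow
  have h1 : Nat.card ↥F.T ∣ Nat.card ↥(Q : Subgroup G) := card_dvd_of_le hQ
  rw [Sylow.card_eq_multiplicity, ← Sylow.card_eq_multiplicity F.S, Frame.T,
    card_map_of_injective F.inj, card_S₀] at h1
  have hle : (F.S : Subgroup G) ≤ centralizer ({α} : Set G) := fun s hs =>
    mem_centralizer_singleton_iff.2 (F.comm s hs)
  have h2 := card_dvd_of_le hle
  rw [← F.range_eq, MonoidHom.range_eq_map, card_map_of_injective F.inj, card_top, card_C₀] at h2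
  obtain ⟨k, hk⟩ := F.S.isPGroup'.exists_card_eq
  rw [hk] at h1 h2 ⊢
  have h3 : 2 ^ k ∣ 512 := by
    have : Nat.Coprime (2 ^ k) 45 := Nat.Coprime.pow_left k (by decide)
    exact this.dvd_of_dvd_mul_right (show 2 ^ k ∣ 512 * 45 from h2)
  exact Nat.dvd_antisymm h1 h3

/-- The coordinate Sylow subgroup as a Sylow subgroup of the group. -/
def Frame.sylow : Sylow 2 G :=
  haveI : Fact (Nat.Prime 2) := ⟨Nat.prime_two⟩
  Sylow.ofCard F.T (by rw [F.card_T, Sylow.card_eq_multiplicity])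

theorem Frame.coe_sylow : (F.sylow : Subgroup G) = F.T := rfl

/-- An elementary subgroup of order 64 of the coordinate Sylow subgroup consists of translations. -/
theorem Frame.elem_eq {E : Subgroup G} (hE : E ≤ F.T) (hsq : ∀ x ∈ E, x * x = 1)
    (hc : Nat.card ↥E = 64) : ∀ x, x ∈ E ↔ ∃ v, x = F.a v := by
  have hle : E.comap F.ι ≤ S₀ := fun x hx => by
    obtain ⟨y, hy, hyx⟩ := hE hx
    exact F.inj hyx ▸ hy
  have hmap : (E.comap F.ι).map F.ι = E := map_comap_eq_self (hE.trans (map_le_range _ _))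
  have hc' : Nat.card ↥(E.comap F.ι) = 64 := by
    rw [← card_map_of_injective F.inj, hmap, hc]
  have hu := elem_unique hle (fun x hx => F.inj (by rw [map_mul, map_one]; exact hsq _ hx)) hc'
  have key : ∀ x ∈ E, ∃ v, x = F.a v := fun x hx => by
    rw [← hmap] at hx
    obtain ⟨y, hy, rfl⟩ := hx
    obtain ⟨v, rfl⟩ := hu y hy
    exact ⟨v, rfl⟩
  refine fun x => ⟨key x, ?_⟩
  rintro ⟨v, rfl⟩
  let φ : ↥E → Fin 64 := fun e => Classical.choose (key e e.2)
  have hφ : ∀ e : ↥E, (e : G) = F.a (φ e) := fun e => Classical.choose_spec (key e e.2)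
  have hinj : Function.Injective φ := fun e e' h => Subtype.ext (by rw [hφ e, hφ e', h])
  have hbij : Function.Bijective φ :=
    (Nat.bijective_iff_injective_and_card φ).2 ⟨hinj, by rw [hc, Nat.card_eq_fintype_card, Fintype.card_fin]⟩
  obtain ⟨e, he⟩ := hbij.2 v
  rw [← he, ← hφ e]
  exact e.2

/-- The elementary subgroup of the translations. -/
def Frame.A : Subgroup G where
  carrier := Set.range F.a
  one_mem' := ⟨0, F.a_zero⟩
  mul_mem' := by rintro _ _ ⟨v, rfl⟩ ⟨w, rfl⟩; exact ⟨_, (F.a_mul v w).symm⟩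
  inv_mem' := by rintro _ ⟨v, rfl⟩; exact ⟨v, eq_inv_of_mul_eq_one_left (F.a_sq v)⟩

theorem Frame.card_A : Nat.card ↥F.A = 64 := by
  show Nat.card ↥(Set.range F.a) = 64
  rw [Nat.card_congr (Equiv.ofInjective _ F.a_injective).symm, Nat.card_eq_fintype_card, Fintype.card_fin]

theorem Frame.A_pgroup : IsPGroup 2 ↥F.A := IsPGroup.of_card (n := 6) (by rw [F.card_A]; norm_num)

theorem Frame.A_le_T : F.A ≤ F.T := by
  rintro _ ⟨v, rfl⟩
  exact ⟨aC v, ⟨(v, 0), by rw [el, rC_zero, mul_one]⟩, rfl⟩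

/-- Two conjugates of the translations in a common 2-subgroup coincide. -/
theorem Frame.A_unique {P : Subgroup G} (hP : IsPGroup 2 ↥P) {g : G}
    (hA : ∀ v, F.a v ∈ P) (hg : ∀ v, g * F.a v * g⁻¹ ∈ P) : ∀ v, ∃ v', g * F.a v * g⁻¹ = F.a v' := by
  haveI : Fact (Nat.Prime 2) := ⟨Nat.prime_two⟩
  obtain ⟨Q, hQ⟩ := hP.exists_le_sylow
  obtain ⟨h, hh⟩ := MulAction.exists_smul_eq G Q F.sylow
  have mem : ∀ x ∈ P, h * x * h⁻¹ ∈ F.T := fun x hx => by
    have h1 : MulAut.conj h • x ∈ ((h • Q : Sylow 2 G) : Subgroup G) :=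
      Subgroup.smul_mem_pointwise_smul _ _ _ (hQ hx)
    rw [hh] at h1
    exact h1
  have img : ∀ k : G, (∀ v, k * F.a v * k⁻¹ ∈ F.T) → ∀ x, x ∈ F.A.map (MulAut.conj k).toMonoidHom ↔
      ∃ v, x = F.a v := by
    intro k hk
    refine F.elem_eq ?_ ?_ ?_
    · rintro _ ⟨_, ⟨v, rfl⟩, rfl⟩; exact hk v
    · rintro _ ⟨_, ⟨v, rfl⟩, rfl⟩
      rw [← map_mul, F.a_sq, map_one]
    · rw [card_map_of_injective (MulAut.conj k).injective, F.card_A]
  have h1 := img h fun v => mem _ (hA v)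
  have h2 := img (h * g) fun v => by
    rw [show h * g * F.a v * (h * g)⁻¹ = h * (g * F.a v * g⁻¹) * h⁻¹ by group]
    exact mem _ (hg v)
  intro v
  obtain ⟨w, hw⟩ := (h2 _).1 ⟨F.a v, ⟨v, rfl⟩, rfl⟩
  obtain ⟨_, ⟨u, rfl⟩, hu⟩ := (h1 _).2 ⟨w, rfl⟩
  refine ⟨u, ?_⟩
  have e : h * (g * F.a v * g⁻¹) * h⁻¹ = h * F.a u * h⁻¹ := by
    have e1 : (MulAut.conj h).toMonoidHom (F.a u) = F.a w := hu
    have e2 : (MulAut.conj (h * g)).toMonoidHom (F.a v) = F.a w := hw
    simp only [MulEquiv.coe_toMonoidHom, MulAut.conj_apply] at e1 e2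
    rw [e1, ← e2]; group
  exact mul_left_cancel (mul_right_cancel e)

/-- Fusion of the translations is controlled by the normalizer. -/
theorem Frame.fusion {v w : Fin 64} (h : IsConj (F.a v) (F.a w)) :
    ∃ n, (∀ u, ∃ u', n * F.a u * n⁻¹ = F.a u') ∧ n * F.a v * n⁻¹ = F.a w := by
  haveI : Fact (Nat.Prime 2) := ⟨Nat.prime_two⟩
  obtain ⟨g, hg⟩ := isConj_iff.1 h
  set H := centralizer ({F.a w} : Set G) with hH
  have hAH : F.A ≤ H := by
    rintro _ ⟨u, rfl⟩
    rw [hH, mem_centralizer_singleton_iff, F.a_mul, F.a_mul,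
      (by decide +kernel : ∀ v w, vadd v w = vadd w v) u w]
  have hBH : F.A.map (MulAut.conj g).toMonoidHom ≤ H := by
    rintro _ ⟨_, ⟨u, rfl⟩, rfl⟩
    rw [hH, mem_centralizer_singleton_iff, ← hg]
    show g * F.a u * g⁻¹ * (g * F.a v * g⁻¹) = g * F.a v * g⁻¹ * (g * F.a u * g⁻¹)
    rw [← show g * (F.a u * F.a v) * g⁻¹ = g * F.a u * g⁻¹ * (g * F.a v * g⁻¹) by group,
      ← show g * (F.a v * F.a u) * g⁻¹ = g * F.a v * g⁻¹ * (g * F.a u * g⁻¹) by group,
      F.a_mul, F.a_mul, (by decide +kernel : ∀ v w, vadd v w = vadd w v) u v]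
  obtain ⟨P, hP⟩ := (F.A_pgroup.comap_of_injective H.subtype H.subtype_injective).exists_le_sylow
  obtain ⟨Q, hQ⟩ := ((F.A_pgroup.map (MulAut.conj g).toMonoidHom).comap_of_injective H.subtype
    H.subtype_injective).exists_le_sylow
  obtain ⟨c, hc⟩ := MulAction.exists_smul_eq ↥H Q P
  refine ⟨c * g, F.A_unique (P.isPGroup'.map H.subtype) (g := c * g) (fun u => ⟨⟨F.a u, hAH ⟨u, rfl⟩⟩, hP ⟨u, rfl⟩, rfl⟩)
    (fun u => ?_), ?_⟩
  · have hu : g * F.a u * g⁻¹ ∈ F.A.map (MulAut.conj g).toMonoidHom := ⟨F.a u, ⟨u, rfl⟩, rfl⟩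
    have h1 : MulAut.conj c • (⟨g * F.a u * g⁻¹, hBH hu⟩ : ↥H) ∈ ((c • Q : Sylow 2 ↥H) : Subgroup ↥H) :=
      Subgroup.smul_mem_pointwise_smul _ _ _ (hQ hu)
    rw [hc] at h1
    refine ⟨_, h1, ?_⟩
    show (c : G) * (g * F.a u * g⁻¹) * (c : G)⁻¹ = (c : G) * g * F.a u * ((c : G) * g)⁻¹
    group
  · have hcw := mem_centralizer_singleton_iff.1 c.2
    rw [show (c : G) * g * F.a v * ((c : G) * g)⁻¹ = c * (g * F.a v * g⁻¹) * (c : G)⁻¹ by group, hg,
      hcw, mul_inv_cancel_right]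

end CfsgLib.Alt12Inv
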