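import Cfsg.Agent.Alt12Inv.Fusion.Pattern
import Mathlib.GroupTheory.Perm.Sign

/-!
The automorphism of the centralizer multiplying the odd permutations of the pairs by the centre.
-/

set_option autoImplicit false
set_option linter.unusedSectionVars false
set_option linter.style.haveILetI false
set_option maxRecDepth 100000

namespace CfsgLib.Alt12Inv

open Equiv

/-- The map of the pairs. -/
def pairFun (g : Perm (Fin 12)) (i : Fin 6) : Fin 6 :=
  ⟨(g ⟨2 * i.1, by have := i.2; omega⟩).1 / 2, by have := (g ⟨2 * i.1, by have := i.2; omega⟩).2; omega⟩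

theorem pairFun_mul {g : Perm (Fin 12)} (hg : g * t₀ = t₀ * g) (h : Perm (Fin 12)) (i : Fin 6) :
    pairFun (g * h) i = pairFun g (pairFun h i) := by
  have half : ∀ j : Fin 12, (t₀ j).1 / 2 = j.1 / 2 ∧
      ((⟨2 * (j.1 / 2), by have := j.2; omega⟩ : Fin 12) = j ∨
        (⟨2 * (j.1 / 2), by have := j.2; omega⟩ : Fin 12) = t₀ j) := by decide +kernel
  set j := h ⟨2 * i.1, by have := i.2; omega⟩ with hj
  refine Fin.ext ?_
  show (g j).1 / 2 = (g ⟨2 * (j.1 / 2), by have := j.2; omega⟩).1 / 2
  rcases (half j).2 with e | e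
  · rw [e]
  · rw [e, show g (t₀ j) = t₀ (g j) from congrArg (fun x : Perm (Fin 12) => x j) hg, (half (g j)).1]

theorem pairFun_one (i : Fin 6) : pairFun 1 i = i := Fin.ext (by show 2 * i.1 / 2 = i.1; omega)

/-- The permutation of the pairs. -/
def pairHom : ↥C₀ →* Perm (Fin 6) where
  toFun g :=
    { toFun := pairFun g
      invFun := pairFun (g⁻¹ : ↥C₀)
      left_inv := fun i => by
        rw [← pairFun_mul (mem_C₀.1 (g⁻¹ : ↥C₀).2).2, ← Subgroup.coe_mul, inv_mul_cancel,
          Subgroup.coe_one, pairFun_one]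
      right_inv := fun i => by
        rw [← pairFun_mul (mem_C₀.1 g.2).2, ← Subgroup.coe_mul, mul_inv_cancel, Subgroup.coe_one,
          pairFun_one] }
  map_one' := Equiv.ext fun i => pairFun_one i
  map_mul' g h := Equiv.ext fun i => pairFun_mul (mem_C₀.1 g.2).2 _ i

/-- The sign of the permutation of the pairs. -/
def pairSgn : ↥C₀ →* ℤˣ := Perm.sign.comp pairHom

theorem pairSgn_aC : ∀ v, pairSgn (aC v) =
    if ((if 2 ≤ dig v 0 then 1 else 0) + (if 2 ≤ dig v 1 then 1 else 0) + (if 2 ≤ dig v 2 then 1 else 0)) % 2 = 1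
    then -1 else 1 := by decide +kernel

theorem aC21_comm (g : ↥C₀) : g * aC 21 = aC 21 * g :=
  Subtype.ext (by show (g : Perm (Fin 12)) * aEl 21 = aEl 21 * g; rw [← t₀_eq]; exact (mem_C₀.1 g.2).2)

/-- The automorphism. -/
def flipAut : ↥C₀ →* ↥C₀ where
  toFun g := if pairSgn g = 1 then g else g * aC 21
  map_one' := by rw [map_one, if_pos rfl]
  map_mul' g h := by
    have hz := aC_sq 21
    rcases Int.units_eq_one_or (pairSgn g) with eg | eg <;>
      rcases Int.units_eq_one_or (pairSgn h) with eh | eh <;>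
      simp only [map_mul, eg, eh, one_mul, mul_one, neg_mul_neg,
        if_true, show ¬ ((-1 : ℤˣ) = 1) by decide, if_false]
    · rw [mul_assoc]
    · rw [mul_assoc g h, aC21_comm h, ← mul_assoc]
    · rw [mul_assoc g (aC 21), ← mul_assoc (aC 21) h, ← aC21_comm h, mul_assoc h, hz, mul_one]

theorem flipAut_aC (v : Fin 64) : flipAut (aC v) = aC (twist v) := by
  show (if pairSgn (aC v) = 1 then aC v else aC v * aC 21) = aC (twist v)
  rw [pairSgn_aC, twist]
  by_cases hp : ((if 2 ≤ dig v 0 then 1 else 0) + (if 2 ≤ dig v 1 then 1 else 0) +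
      (if 2 ≤ dig v 2 then 1 else 0)) % 2 = 1
  · rw [if_pos hp, if_pos hp, if_neg (show ¬ ((-1 : ℤˣ) = 1) by decide), aC_mul]
  · rw [if_neg hp, if_neg hp, if_pos rfl]

theorem flipAut_flipAut (g : ↥C₀) : flipAut (flipAut g) = g := by
  have e21 : pairSgn (aC 21) = 1 := by rw [pairSgn_aC]; decide +kernel
  show (if pairSgn (flipAut g) = 1 then flipAut g else flipAut g * aC 21) = g
  have e : pairSgn (flipAut g) = pairSgn g := by
    show pairSgn (if pairSgn g = 1 then g else g * aC 21) = pairSgn g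
    split_ifs
    · rfl
    · rw [map_mul, e21, mul_one]
  rw [e]
  show (if pairSgn g = 1 then (if pairSgn g = 1 then g else g * aC 21)
    else (if pairSgn g = 1 then g else g * aC 21) * aC 21) = g
  split_ifs
  · rfl
  · rw [mul_assoc, aC_sq, mul_one]

theorem flipAut_bijective : Function.Bijective flipAut :=
  ⟨fun g h e => by rw [← flipAut_flipAut g, e, flipAut_flipAut], fun g => ⟨_, flipAut_flipAut g⟩⟩

end CfsgLib.Alt12Inv
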