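import Cfsg.Agent.Alt12Inv.Fusion.Action
import Cfsg.Agent.Alt12Inv.Fusion.Outer
import Cfsg.Agent.ZStar.Final
import Cfsg.Agent.Solvable.Basics
import Cfsg.Prelude.Def_CaseTheorems
import Mathlib.GroupTheory.FixedPointFree

/-!
The fusion trichotomy.
-/

set_option autoImplicit false
set_option linter.unusedSectionVars false
set_option linter.style.haveILetI false
set_option maxRecDepth 100000

namespace CfsgLib.Alt12Inv

open Subgroup

universe u

variable {G : Type u} [Group G] [Finite G] {α : G}

/-- The frame after the outer automorphism of the centralizer. -/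
def Frame.twisted (F : Frame α) : Frame α where
  ι := F.ι.comp flipAut
  inj := F.inj.comp flipAut_bijective.1
  range_eq := by
    rw [MonoidHom.range_comp, MonoidHom.range_eq_top.2 flipAut_bijective.2, ← MonoidHom.range_eq_map,
      F.range_eq]
  centre := by
    rw [MonoidHom.comp_apply, flipAut_aC, show twist 21 = 21 by decide +kernel]; exact F.centre
  S := F.S
  comm := F.comm
  mem := F.mem

theorem Frame.twisted_fused (F : Frame α) (v : Fin 64) : F.twisted.Fused v ↔ F.Fused (twist v) := by
  unfold Frame.Fused Frame.a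
  rw [show F.twisted.ι (aC v) = F.ι (flipAut (aC v)) from rfl, flipAut_aC]

/-- An isolated involution with this centralizer inverts a normal complement. -/
theorem Frame.isolated_case (F : Frame α) (h : ∀ v, F.Fused v ↔ v = 21) :
    Cfsg.oddCore G ⊔ centralizer ({α} : Set G) = ⊤ ∧ IsMulCommutative ↥(Cfsg.oddCore G) := by
  haveI : Fact (Nat.Prime 2) := ⟨Nat.prime_two⟩
  have hα : orderOf α = 2 := orderOf_eq_prime (by rw [sq, ← F.a_centre, F.a_sq]) F.ne_one
  have hP : ∀ g : G, g * α * g⁻¹ ∈ (F.S : Subgroup G) → g * α * g⁻¹ = α := by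
    intro g hg
    obtain ⟨x, hx⟩ := (F.mem_range (g := g * α * g⁻¹)).2 (F.comm _ hg)
    have hx2 : x * x = 1 := F.inj (by
      rw [map_mul, map_one, hx, show g * α * g⁻¹ * (g * α * g⁻¹) = g * (α * α) * g⁻¹ by group,
        ← F.a_centre, F.a_sq, mul_one, mul_inv_cancel])
    obtain ⟨c, v, hc⟩ := invol_conj x hx2
    have h1 : IsConj α (F.a v) := by
      refine (isConj_iff.2 ⟨g, rfl⟩ : IsConj α (g * α * g⁻¹)).trans ?_
      rw [← hx]
      exact isConj_iff.2 ⟨F.ι c, by rw [← map_inv, ← map_mul, ← map_mul, hc]; rfl⟩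
    rw [(h v).1 h1] at hc
    have h2 : x = aC 21 := by
      have e := F.comm_centre c⁻¹
      have e' : c * x * c⁻¹ = c * aC 21 * c⁻¹ := by
        rw [hc]
        refine F.inj ?_
        rw [map_mul, map_mul, map_inv, F.centre, (F.comm_centre c).eq, mul_inv_cancel_right]
      exact mul_left_cancel (mul_right_cancel e')
    rw [← hx, h2, F.centre]
  obtain ⟨N, hN, hNodd, hNc⟩ := CfsgLib.ZStar.zstar_of_sylow F.S hα hP
  have hiso := CfsgLib.Invol.isolated_of_sylow F.S hα hP
  have hNO : N ≤ Cfsg.oddCore G :=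
    CfsgLib.Solvable.le_pPrimeCore 2 hN (Nat.coprime_two_right.2 hNodd)
  have hinv : α⁻¹ = α := inv_eq_of_mul_eq_one_right (by rw [← F.a_centre, F.a_sq])
  refine ⟨eq_top_iff.2 fun g _ => ?_, ?_⟩
  · obtain ⟨m, hm⟩ := CfsgLib.Invol.isolated_exists_conj hiso g
    have hmem : (α * (g * α * g⁻¹)) ^ m ∈ Cfsg.oddCore G := pow_mem (hNO (by
      have := hNc g
      rw [hinv] at this
      rw [show α * (g * α * g⁻¹) = α * g * α * g⁻¹ by group]
      exact this)) m
    set k := (α * (g * α * g⁻¹)) ^ m with hk
    have hcomm : k⁻¹ * g ∈ centralizer ({α} : Set G) := by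
      rw [mem_centralizer_singleton_iff]
      calc k⁻¹ * g * α = k⁻¹ * (g * α * g⁻¹) * g := by group
        _ = k⁻¹ * (k * α * k⁻¹) * g := by rw [hm]
        _ = α * (k⁻¹ * g) := by group
    have := mul_mem (mem_sup_left (T := centralizer ({α} : Set G)) hmem) (mem_sup_right hcomm)
    rwa [mul_inv_cancel_left] at this
  · have hfix : ∀ x ∈ Cfsg.oddCore G, α * x * α⁻¹ = x → x = 1 := by
      intro x hx hfx
      obtain ⟨y, rfl⟩ := (F.mem_range (g := x)).2 ((mul_inv_eq_iff_eq_mul.1 hfx).symm)
      haveI : ((Cfsg.oddCore G).comap F.ι).Normal :=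
        (CfsgLib.Solvable.pPrimeCore_normal 2 : (Cfsg.oddCore G).Normal).comap _
      have hb := no_odd_normal ((Cfsg.oddCore G).comap F.ι) (by
        refine Nat.coprime_two_right.1 (Nat.Coprime.coprime_dvd_left ?_
          (CfsgLib.Solvable.coprime_card_pPrimeCore (G := G) 2))
        rw [← card_map_of_injective F.inj]
        exact card_dvd_of_le (map_comap_le _ _))
      have hy : y ∈ (Cfsg.oddCore G).comap F.ι := hx
      rw [hb, mem_bot] at hy
      rw [hy, map_one]
    let φ : ↥(Cfsg.oddCore G) →* ↥(Cfsg.oddCore G) :=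
      { toFun := fun x => ⟨α * x * α⁻¹,
          (CfsgLib.Solvable.pPrimeCore_normal 2 : (Cfsg.oddCore G).Normal).conj_mem _ x.2 α⟩
        map_one' := Subtype.ext (show α * (1 : G) * α⁻¹ = 1 by rw [mul_one, mul_inv_cancel])
        map_mul' := fun x y => Subtype.ext (by
          show α * ((x : G) * y) * α⁻¹ = α * x * α⁻¹ * (α * y * α⁻¹)
          group) }
    have hφ : MonoidHom.FixedPointFree φ := fun x hx =>
      Subtype.ext (hfix x x.2 (congrArg Subtype.val hx))
    have h2 : Function.Involutive φ := fun x => Subtype.ext (by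
      show α * (α * (x : G) * α⁻¹) * α⁻¹ = x
      rw [hinv, show α * (α * (x : G) * α) * α = α * α * x * (α * α) by group, ← F.a_centre, F.a_sq,
        one_mul, mul_one])
    exact ⟨⟨fun a b => hφ.commute_all_of_involutive h2 a b⟩⟩

/-- Either the involution is isolated, or coordinates exist with one of two fusion patterns. -/
theorem cases {G : Type u} [Group G] [Finite G] (α : G) (hα : orderOf α = 2) (S : Sylow 2 G)
    (hαS : α ∈ (S : Subgroup G) ⊓ Subgroup.centralizer ((S : Subgroup G) : Set G))
    (hC : Nonempty (↥(Subgroup.centralizer ({α} : Set G)) ≃* ↥C₀)) :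
    (Cfsg.oddCore G ⊔ Subgroup.centralizer ({α} : Set G) = ⊤ ∧ IsMulCommutative ↥(Cfsg.oddCore G)) ∨
      ∃ F : Frame α, (∀ v, F.Fused v ↔ Short v) ∨ (∀ v, F.Fused v ↔ weight v = 3) := by
  obtain ⟨e⟩ := hC
  have hne : α ≠ 1 := fun h => by rw [h, orderOf_one] at hα; omega
  set a : ↥(centralizer ({α} : Set G)) := ⟨α, mem_centralizer_singleton_iff.2 rfl⟩ with ha
  have hcen : e a = aC 21 := by
    refine (centre_eq (g := e a) fun x => ?_).resolve_left fun h => hne ?_
    · have hc : a * e.symm x = e.symm x * a := Subtype.ext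
        (mem_centralizer_singleton_iff.1 (e.symm x).2).symm
      have := congrArg e hc
      rwa [map_mul, map_mul, e.apply_symm_apply] at this
    · exact congrArg Subtype.val (e.injective (h.trans (map_one e).symm))
  let F : Frame α :=
    { ι := (centralizer ({α} : Set G)).subtype.comp e.symm.toMonoidHom
      inj := (centralizer ({α} : Set G)).subtype_injective.comp e.symm.injective
      range_eq := by
        rw [MonoidHom.range_comp, MonoidHom.range_eq_top.2 e.symm.surjective, ← MonoidHom.range_eq_map,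
          range_subtype]
      centre := by
        show ((e.symm (aC 21) : ↥(centralizer ({α} : Set G))) : G) = α
        rw [← hcen, e.symm_apply_apply]
      S := S
      comm := fun s hs => (mem_centralizer_iff.1 hαS.2 s hs)
      mem := hαS.1 }
  obtain ⟨m, hm, hf⟩ := F.fused_pattern
  rcases five_chk m hm with h | h | h | h | h
  · exact Or.inl (F.isolated_case fun v => (hf v).trans (h v))
  · exact Or.inr ⟨F, Or.inl fun v => (hf v).trans (h v)⟩
  · exact Or.inr ⟨F.twisted, Or.inl fun v => (F.twisted_fused v).trans ((hf _).trans (h v))⟩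
  · exact Or.inr ⟨F, Or.inr fun v => (hf v).trans (h v)⟩
  · exact Or.inr ⟨F.twisted, Or.inr fun v => (F.twisted_fused v).trans ((hf _).trans (h v))⟩

end CfsgLib.Alt12Inv
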