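import Cfsg.Agent.Alt12Inv.Fusion.Sylow
import Mathlib.GroupTheory.GroupAction.Quotient
import Mathlib.Dynamics.PeriodicPts.Lemmas

/-!
Centralizers, odd normal subgroups and fourth powers in the centralizer of the involution with six cycles.
-/

set_option autoImplicit false
set_option linter.unusedSectionVars false
set_option linter.style.haveILetI false
set_option maxRecDepth 100000

namespace CfsgLib.Alt12Inv

open Equiv

/-- An element of the centralizer from its values. -/
def ofList (l : List (Fin 12)) (i : Fin 12) : Fin 12 := l.getD i.1 0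

theorem comm_aEl {g : Perm (Fin 12)} (h : ∀ v, g * aEl v = aEl v * g) (v : Fin 64) (i : Fin 12) :
    g (aFun v i) = aFun v (g i) :=
  congrArg (fun x : Perm (Fin 12) => x i) (h v)

/-- The translations are their own centralizer. -/
theorem eq_aEl_of_comm {g : Perm (Fin 12)} (h : ∀ v, g * aEl v = aEl v * g) : ∃ v, g = aEl v := by
  have fix0 : ∀ j : Fin 12, (∀ v : Fin 64, dig v 0 = 0 → aFun v j = j) → j.1 / 4 = 0 := by decide +kernel
  have fix1 : ∀ j : Fin 12, (∀ v : Fin 64, dig v 1 = 0 → aFun v j = j) → j.1 / 4 = 1 := by decide +kernel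
  have fix2 : ∀ j : Fin 12, (∀ v : Fin 64, dig v 2 = 0 → aFun v j = j) → j.1 / 4 = 2 := by decide +kernel
  have fixes : (∀ v : Fin 64, dig v 0 = 0 → aFun v 0 = 0) ∧ (∀ v : Fin 64, dig v 1 = 0 → aFun v 4 = 4) ∧
      ∀ v : Fin 64, dig v 2 = 0 → aFun v 8 = 8 := by decide +kernel
  have h0 := fix0 (g 0) fun v hv => by rw [← comm_aEl h, fixes.1 v hv]
  have h1 := fix1 (g 4) fun v hv => by rw [← comm_aEl h, fixes.2.1 v hv]
  have h2 := fix2 (g 8) fun v hv => by rw [← comm_aEl h, fixes.2.2 v hv]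
  have chk : ∀ a b c : Fin 12, a.1 / 4 = 0 → b.1 / 4 = 1 → c.1 / 4 = 2 →
      aFun (mkCode (a.1 % 4) (b.1 % 4) (c.1 % 4)) 0 = a ∧ aFun (mkCode (a.1 % 4) (b.1 % 4) (c.1 % 4)) 4 = b ∧
        aFun (mkCode (a.1 % 4) (b.1 % 4) (c.1 % 4)) 8 = c := by decide +kernel
  set w := mkCode ((g 0).1 % 4) ((g 4).1 % 4) ((g 8).1 % 4) with hw
  obtain ⟨w0, w1, w2⟩ := chk _ _ _ h0 h1 h2
  refine ⟨w, Equiv.ext fun i => ?_⟩
  obtain ⟨v, o, ho, rfl⟩ : ∃ v o, (o = 0 ∨ o = 4 ∨ o = 8) ∧ aFun v o = i := by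
    revert i; decide +kernel
  rw [comm_aEl h]
  show aFun v (g o) = aFun w (aFun v o)
  have hc : aFun v (aFun w o) = aFun w (aFun v o) :=
    congrArg (fun x : ↥C₀ => (x : Perm (Fin 12)) o) (aC_comm v w)
  rcases ho with rfl | rfl | rfl
  · rw [← hc, ← w0]
  · rw [← hc, ← w1]
  · rw [← hc, ← w2]

theorem cent_aC {g : ↥C₀} (h : ∀ v, g * aC v = aC v * g) : ∃ v, g = aC v := by
  obtain ⟨v, hv⟩ := eq_aEl_of_comm (g := (g : Perm (Fin 12))) fun v => congrArg Subtype.val (h v)
  exact ⟨v, Subtype.ext hv⟩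

/-- The rotation of the quadruples. -/
def cyc : Perm (Fin 12) :=
  ⟨ofList [4, 5, 6, 7, 8, 9, 10, 11, 0, 1, 2, 3], ofList [8, 9, 10, 11, 0, 1, 2, 3, 4, 5, 6, 7],
    by unfold Function.LeftInverse; decide +kernel, by unfold Function.RightInverse Function.LeftInverse; decide +kernel⟩

theorem cyc_mem : cyc ∈ C₀ := by
  simp only [mem_C₀, Perm.mem_alternatingGroup, Equiv.ext_iff, Perm.mul_apply]
  decide +kernel

/-- The rotation of the quadruples in the centralizer. -/
def cycC : ↥C₀ := ⟨cyc, cyc_mem⟩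

/-- Its action on the codes. -/
def cycCode (v : Fin 64) : Fin 64 := mkCode (dig v 2) (dig v 0) (dig v 1)

theorem cycC_aC (v : Fin 64) : cycC * aC v = aC (cycCode v) * cycC :=
  Subtype.ext (Equiv.ext ((by decide +kernel :
    ∀ v i, cyc (aFun v i) = aFun (cycCode v) (cyc i)) v))

/-- The centre has order two. -/
theorem centre_eq {g : ↥C₀} (h : ∀ x, g * x = x * g) : g = 1 ∨ g = aC 21 := by
  obtain ⟨v, rfl⟩ := cent_aC fun v => h _
  have h1 : ∀ k, act k v = v := fun k => aC_injective <| by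
    have e := h (rC k)
    rw [rC_aC] at e
    exact (mul_right_cancel e).symm
  have h2 : cycCode v = v := aC_injective <| by
    have e := h cycC
    rw [cycC_aC] at e
    exact (mul_right_cancel e).symm
  have key : ∀ v, (∀ k, act k v = v) → cycCode v = v → v = 0 ∨ v = 21 := by decide +kernel
  rcases key v h1 h2 with rfl | rfl
  · exact Or.inl aC_zero
  · exact Or.inr rfl

/-- An element moving points at most to their partners. -/
def IsFlip (g : Perm (Fin 12)) : Prop := ∀ i, g i = i ∨ g i = t₀ i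

theorem IsFlip.sq {g : Perm (Fin 12)} (h : IsFlip g) : g * g = 1 := by
  have ht : ∀ i, t₀ (t₀ i) = i ∧ t₀ i ≠ i := by decide +kernel
  refine Equiv.ext fun i => ?_
  show g (g i) = i
  rcases h i with h1 | h1
  · rw [h1, h1]
  · rcases h (t₀ i) with h2 | h2
    · exact absurd (g.injective (h2.trans h1.symm)) (ht i).2
    · rw [h1, h2, (ht i).1]

theorem IsFlip.mul {g h : Perm (Fin 12)} (hg : IsFlip g) (hh : IsFlip h) : IsFlip (g * h) := by
  have ht : ∀ i, t₀ (t₀ i) = i := by decide +kernel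
  intro i
  show g (h i) = i ∨ g (h i) = t₀ i
  rcases hh i with h1 | h1
  · rw [h1]; exact hg i
  · rw [h1]
    rcases hg (t₀ i) with h2 | h2
    · exact Or.inr h2
    · exact Or.inl (h2.trans (ht i))

theorem IsFlip.conj {g d : Perm (Fin 12)} (hg : IsFlip g) (hd : d * t₀ = t₀ * d) :
    IsFlip (d * g * d⁻¹) := by
  intro i
  show d (g (d⁻¹ i)) = i ∨ d (g (d⁻¹ i)) = t₀ i
  rcases hg (d⁻¹ i) with h1 | h1
  · exact Or.inl (by rw [h1, Perm.coe_inv, Equiv.apply_symm_apply])
  · refine Or.inr ?_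
    rw [h1]
    have := congrArg (fun x : Perm (Fin 12) => x (d⁻¹ i)) hd
    simp only [Perm.mul_apply] at this
    rw [this, Perm.coe_inv, Equiv.apply_symm_apply]

/-- The flip of two pairs. -/
def flipFun (a b : Fin 6) (i : Fin 12) : Fin 12 := if i.1 / 2 = a.1 ∨ i.1 / 2 = b.1 then t₀ i else i

theorem flipFun_invol : ∀ a b i, flipFun a b (flipFun a b i) = i := by decide +kernel

/-- The flip of two pairs as a permutation. -/
def flipEl (a b : Fin 6) : Perm (Fin 12) :=
  ⟨flipFun a b, flipFun a b, flipFun_invol a b, flipFun_invol a b⟩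

theorem flipEl_mem : ∀ a b, a ≠ b → flipEl a b ∈ C₀ := by
  simp only [mem_C₀, Perm.mem_alternatingGroup, Equiv.ext_iff, Perm.mul_apply]
  decide +kernel

theorem flipEl_isFlip : ∀ a b, IsFlip (flipEl a b) := by unfold IsFlip; decide +kernel

/-- The centralizer has no odd normal subgroup. -/
theorem no_odd_normal (D : Subgroup ↥C₀) [hD : D.Normal] (hodd : Odd (Nat.card ↥D)) : D = ⊥ := by
  rw [eq_bot_iff]
  intro d hd
  have ho : ∀ {y : ↥C₀}, y ∈ D → y * y = 1 → y = 1 := fun {y} hy h2 => by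
    have h1 : orderOf y ∣ 2 := orderOf_dvd_of_pow_eq_one (by rw [sq]; exact h2)
    have h3 : orderOf y ∣ Nat.card ↥D := by
      rw [← Subgroup.orderOf_mk y hy]; exact orderOf_dvd_natCard _
    rw [← orderOf_eq_one_iff]
    exact Nat.eq_one_of_dvd_coprimes (Nat.coprime_two_left.2 hodd) h1 h3
  have hcomm : ∀ a b, a ≠ b → (d : Perm (Fin 12)) * flipEl a b = flipEl a b * d := by
    intro a b hab
    set f : ↥C₀ := ⟨flipEl a b, flipEl_mem a b hab⟩ with hf
    have hm : d * (f * d⁻¹ * f⁻¹) ∈ D := mul_mem hd (hD.conj_mem _ (inv_mem hd) f)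
    have hval : ((d * (f * d⁻¹ * f⁻¹) : ↥C₀) : Perm (Fin 12)) =
        (d : Perm (Fin 12)) * flipEl a b * (d : Perm (Fin 12))⁻¹ * flipEl a b := by
      have hinv : (flipEl a b)⁻¹ = flipEl a b := inv_eq_of_mul_eq_one_right (flipEl_isFlip a b).sq
      simp only [hf, Subgroup.coe_mul, Subgroup.coe_inv, hinv, mul_assoc]
    have h1 := ho hm (Subtype.ext (by
      rw [Subgroup.coe_mul, hval, Subgroup.coe_one]
      exact (((flipEl_isFlip a b).conj (mem_C₀.1 d.2).2).mul (flipEl_isFlip a b)).sq))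
    have h2 := congrArg Subtype.val h1
    rw [hval, Subgroup.coe_one, mul_eq_one_iff_eq_inv,
      inv_eq_of_mul_eq_one_right (flipEl_isFlip a b).sq] at h2
    exact mul_inv_eq_iff_eq_mul.1 h2
  have hflip : IsFlip (d : Perm (Fin 12)) := by
    intro i
    have hp : ∀ i j : Fin 12, (∀ a b : Fin 6, a ≠ b → flipFun a b i ≠ i → flipFun a b j ≠ j) →
        j = i ∨ j = t₀ i := by decide +kernel
    refine hp i _ fun a b hab h hfix => h ((d : Perm (Fin 12)).injective ?_)
    have := congrArg (fun x : Perm (Fin 12) => x i) (hcomm a b hab)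
    simp only [Perm.mul_apply] at this
    exact this.trans hfix
  exact ho hd (Subtype.ext hflip.sq)

/-- A fixed-point-free involution of twelve points is no fourth power. -/
theorem not_fourth_power {k : Perm (Fin 12)} (h : k ^ 4 = t₀) : False := by
  have h8 : k ^ 8 = 1 := by
    rw [show 8 = 4 + 4 from rfl, pow_add, h, t₀_eq]
    exact congrArg Subtype.val (aC_sq 21)
  have ht : ∀ i, t₀ i ≠ i := by decide +kernel
  have hfree : ∀ b : Fin 12, MulAction.stabilizer (Subgroup.zpowers k) b = ⊥ := by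
    intro b
    rw [eq_bot_iff]
    rintro ⟨y, hy⟩ hs
    obtain ⟨m, rfl⟩ := mem_powers_iff_mem_zpowers.2 hy
    have hb : (k ^ m) b = b := hs
    have hper : Function.IsPeriodicPt k 8 b := by
      show (⇑k)^[8] b = b
      rw [← Perm.coe_pow, h8]; rfl
    have hm : Function.IsPeriodicPt k m b := by
      show (⇑k)^[m] b = b
      rw [← Perm.coe_pow]; exact hb
    have hg : Function.IsPeriodicPt k (Nat.gcd 8 m) b := hper.gcd hm
    obtain ⟨e, he, heq⟩ := (Nat.dvd_prime_pow Nat.prime_two).1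
      (show Nat.gcd 8 m ∣ 2 ^ 3 from Nat.gcd_dvd_left 8 m)
    have he3 : e = 3 := by
      by_contra hne
      have h4 : Function.IsPeriodicPt k 4 b := hg.trans_dvd (by
        rw [heq]; exact Nat.pow_dvd_pow 2 (show e ≤ 2 by omega))
      refine ht b ?_
      rw [← h, Perm.coe_pow]
      exact h4
    have hdvd : 8 ∣ m := by
      rw [he3] at heq
      exact (show (8 : ℕ) = 2 ^ 3 from rfl) ▸ heq ▸ Nat.gcd_dvd_right 8 m
    obtain ⟨q, rfl⟩ := hdvd
    exact Subgroup.mem_bot.2 (Subtype.ext (show k ^ (8 * q) = 1 by rw [pow_mul, h8, one_pow]))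
  have hk : orderOf k = 8 := by
    have h1 : k ^ 2 ^ (2 + 1) = 1 := h8
    refine (orderOf_eq_prime_pow (p := 2) (n := 2) ?_ h1).trans (by norm_num)
    show ¬ k ^ 4 = 1
    rw [h]
    intro e
    exact ht 0 (congrArg (fun x : Perm (Fin 12) => x 0) e)
  have hcard := Nat.card_congr (MulAction.selfEquivOrbitsQuotientProd hfree)
  rw [Nat.card_prod, Nat.card_fin, Nat.card_zpowers, hk] at hcard
  omega

/-- An element of order eight. -/
def octo : Perm (Fin 12) :=
  ⟨ofList [2, 3, 4, 5, 6, 7, 1, 0, 9, 8, 10, 11], ofList [7, 6, 0, 1, 2, 3, 4, 5, 9, 8, 10, 11],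
    by unfold Function.LeftInverse; decide +kernel, by unfold Function.RightInverse Function.LeftInverse; decide +kernel⟩

theorem octo_mem : octo ∈ C₀ := by
  simp only [mem_C₀, Perm.mem_alternatingGroup, Equiv.ext_iff, Perm.mul_apply]
  decide +kernel

theorem octo_pow : (⟨octo, octo_mem⟩ : ↥C₀) ^ 4 = aC 5 :=
  Subtype.ext (Equiv.ext (by decide +kernel : ∀ i, (octo ^ 4) i = aFun 5 i))

end CfsgLib.Alt12Inv
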