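import Cfsg.Agent.Alt12Inv.Fusion.Centre

/-!
The possible sets of codes fused to the centre, and their linear symmetries.
-/

set_option autoImplicit false
set_option linter.unusedSectionVars false
set_option linter.style.haveILetI false
set_option maxRecDepth 100000

namespace CfsgLib.Alt12Inv

/-- The number of an orbit of a code under the stabilizer of the centre. -/
def orbIdx (v : Fin 64) : ℕ :=
  ([10, 1, 2, 2, 1, 3, 4, 4, 2, 4, 5, 5, 2, 4, 5, 5, 1, 3, 4, 4, 3, 0, 6, 6, 4, 6, 7, 7, 4, 6, 7, 7,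
    2, 4, 5, 5, 4, 6, 7, 7, 5, 7, 8, 9, 5, 7, 9, 8, 2, 4, 5, 5, 4, 6, 7, 7, 5, 7, 9, 8, 5, 7, 8, 9] :
      List ℕ).getD v.1 0

/-- A representative of an orbit. -/
def orbRep (n : ℕ) : Fin 64 := ([21, 1, 2, 5, 6, 10, 22, 26, 42, 43, 0] : List (Fin 64)).getD n 0

/-- Conjugates of a code. -/
def s4 (k : Fin 8) (j : Fin 3) (v : Fin 64) : Fin 64 := act k (cycCode^[j.1] v)

theorem orbit_chk : ∀ v, ∃ k j, s4 k j (orbRep (orbIdx v)) = v := by decide +kernel

/-- The bits of the union of the central code and some orbits. -/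
def bitsOf (m : Fin 512) : ℕ :=
  ((List.range 9).map fun i => if (m.1 / 2 ^ i) % 2 = 1 then
    ([65554, 281479271682316, 1179680, 5066627176211136, 1228375541602634752, 9007337276702720,
      2504039604269613056, 5188291906265677824, 9511681577843687424] : List ℕ).getD i 0 else 0).foldl
    Nat.lor 2097152

theorem bitsOf_idx : ∀ m : Fin 512, ∀ v : Fin 64, Nat.testBit (bitsOf m) v.1 =
    if orbIdx v = 0 then true else if orbIdx v = 10 then false else Nat.testBit m.1 (orbIdx v - 1) := by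
  decide +kernel

/-- The number of ways to a member as a sum with a member. -/
def cnt2 (f : Fin 64 → Bool) (x : Fin 64) : ℕ :=
  (List.finRange 64).countP fun y => f y && f (vadd x y)

/-- The number of ways to a member as a sum with two members. -/
def cnt3 (f : Fin 64 → Bool) (x : Fin 64) : ℕ :=
  (((List.finRange 64).filter f).map fun y => cnt2 f (vadd x y)).sum

/-- The number of members. -/
def cnt1 (f : Fin 64 → Bool) : ℕ := (List.finRange 64).countP f

/-- The five possible sets. -/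
def five : List (Fin 512) := [0, 2, 32, 450, 480]

theorem mask_chk : ∀ m : Fin 512, Nat.testBit (bitsOf m) 5 = false →
    cnt1 (fun v => Nat.testBit (bitsOf m) v.1) % 2 = 1 →
    m ∈ five ∨
    (∃ n : Fin 10, Nat.testBit (bitsOf m) (orbRep n.1).1 = true ∧
      cnt2 (fun v => Nat.testBit (bitsOf m) v.1) (orbRep n.1) ≠ cnt2 (fun v => Nat.testBit (bitsOf m) v.1) 21) ∨
    m ∈ ([128, 130, 160, 256, 258, 288] : List (Fin 512)) := by decide +kernel

theorem mask_chk3 : ∀ m ∈ ([128, 130, 160, 256, 258, 288] : List (Fin 512)),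
    ∃ n : Fin 10, Nat.testBit (bitsOf m) (orbRep n.1).1 = true ∧
      cnt3 (fun v => Nat.testBit (bitsOf m) v.1) (orbRep n.1) ≠ cnt3 (fun v => Nat.testBit (bitsOf m) v.1) 21 := by
  decide +kernel

/-- A predicate on the codes with the properties of the fused codes is one of five. -/
theorem pattern (f : Fin 64 → Bool) (h21 : f 21 = true) (h0 : f 0 = false)
    (hs : ∀ k j v, f (s4 k j v) = f v) (h5 : f 5 = false) (hodd : Odd (cnt1 f))
    (hc2 : ∀ x, f x = true → cnt2 f x = cnt2 f 21) (hc3 : ∀ x, f x = true → cnt3 f x = cnt3 f 21) :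
    ∃ m ∈ five, ∀ v, f v = Nat.testBit (bitsOf m) v.1 := by
  have hrep : ∀ v, f v = f (orbRep (orbIdx v)) := fun v => by
    obtain ⟨k, j, h⟩ := orbit_chk v
    conv_lhs => rw [← h]
    exact hs k j _
  obtain ⟨m, hm⟩ : ∃ m : Fin 512, ∀ i : Fin 9, Nat.testBit m.1 i.1 = f (orbRep (i.1 + 1)) := by
    have key : ∀ a b c d e g h i j : Bool, ∃ m : Fin 512, [Nat.testBit m.1 0, Nat.testBit m.1 1,
        Nat.testBit m.1 2, Nat.testBit m.1 3, Nat.testBit m.1 4, Nat.testBit m.1 5, Nat.testBit m.1 6,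
        Nat.testBit m.1 7, Nat.testBit m.1 8] = [a, b, c, d, e, g, h, i, j] := by
      intro a b c d e g h i j
      refine ⟨⟨(cond a 1 0 + cond b 2 0 + cond c 4 0 + cond d 8 0 + cond e 16 0 + cond g 32 0 + cond h 64 0 +
        cond i 128 0 + cond j 256 0) % 512, Nat.mod_lt _ (by decide)⟩, ?_⟩
      revert a b c d e g h i j
      decide +kernel
    obtain ⟨m, hm⟩ := key (f (orbRep 1)) (f (orbRep 2)) (f (orbRep 3)) (f (orbRep 4)) (f (orbRep 5))
      (f (orbRep 6)) (f (orbRep 7)) (f (orbRep 8)) (f (orbRep 9))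
    simp only [List.cons.injEq, and_true] at hm
    obtain ⟨a0, a1, a2, a3, a4, a5, a6, a7, a8⟩ := hm
    refine ⟨m, fun i => ?_⟩
    fin_cases i <;> assumption
  have hlt : ∀ v, orbIdx v ≤ 10 := by decide +kernel
  have hf : f = fun v : Fin 64 => Nat.testBit (bitsOf m) v.1 := by
    funext v
    rw [bitsOf_idx, hrep v]
    by_cases e0 : orbIdx v = 0
    · rw [if_pos e0, e0]; exact h21
    · rw [if_neg e0]
      by_cases e1 : orbIdx v = 10
      · rw [if_pos e1, e1]; exact h0
      · rw [if_neg e1]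
        have := hm ⟨orbIdx v - 1, by have := hlt v; omega⟩
        simp only [Nat.sub_add_cancel (Nat.one_le_iff_ne_zero.2 e0)] at this
        exact this.symm
  subst hf
  rcases mask_chk m h5 (Nat.odd_iff.1 hodd) with h | ⟨n, hn, hne⟩ | h
  · exact ⟨m, h, fun v => rfl⟩
  · exact absurd (hc2 _ hn) hne
  · obtain ⟨n, hn, hne⟩ := mask_chk3 m h
    exact absurd (hc3 _ hn) hne

/-- The change of coordinates on the codes. -/
def twist (v : Fin 64) : Fin 64 :=
  if ((if 2 ≤ dig v 0 then 1 else 0) + (if 2 ≤ dig v 1 then 1 else 0) + (if 2 ≤ dig v 2 then 1 else 0)) % 2 = 1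
  then vadd v 21 else v

theorem five_chk : ∀ m ∈ five, (∀ v : Fin 64, Nat.testBit (bitsOf m) v.1 = true ↔ v = 21) ∨
    (∀ v : Fin 64, Nat.testBit (bitsOf m) v.1 = true ↔ Short v) ∨
    (∀ v : Fin 64, Nat.testBit (bitsOf m) (twist v).1 = true ↔ Short v) ∨
    (∀ v : Fin 64, Nat.testBit (bitsOf m) v.1 = true ↔ weight v = 3) ∨
    ∀ v : Fin 64, Nat.testBit (bitsOf m) (twist v).1 = true ↔ weight v = 3 := by
  unfold Short
  decide +kernel

theorem cnt2_weight : ∀ v, cnt2 (fun u => decide (weight u = 3)) v =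
    ([27, 18, 12, 8] : List ℕ).getD (weight v) 0 := by decide +kernel

theorem weight_of_cnt : ∀ v w, ([27, 18, 12, 8] : List ℕ).getD (weight v) 0 =
    ([27, 18, 12, 8] : List ℕ).getD (weight w) 0 → weight v = weight w := by decide +kernel

/-- The codes of weight one. -/
def one₁ : List (Fin 64) := [1, 2, 3, 4, 8, 12, 16, 32, 48]

theorem mem_one : ∀ v, weight v = 1 → v ∈ one₁ := by decide +kernel

/-- The linear map with given values on the basis. -/
def lin (b : List (Fin 64)) (v : Fin 64) : Fin 64 :=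
  (List.range 6).foldl (fun s i => if (v.1 / 2 ^ i) % 2 = 1 then vadd s (b.getD i 0) else s) 0

/-- The quadruple permutations. -/
def quadPerm (j : Fin 6) (v : Fin 64) : Fin 64 :=
  cycCode^[j.1 % 3] (if j.1 < 3 then v else act 4 v)

theorem rot_chk : ∀ a ∈ one₁, ∀ b ∈ one₁, weight (vadd a b) = 1 →
    ∀ c ∈ one₁, weight (vadd a c) = 2 → ∀ d ∈ one₁, weight (vadd c d) = 1 →
    ∀ e ∈ one₁, weight (vadd a e) = 2 → weight (vadd c e) = 2 → vadd a (vadd c e) = 22 →
    ∀ f ∈ one₁, weight (vadd e f) = 1 →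
    ∃ j : Fin 6, ∃ r : Fin 2, ∀ i : Fin 6,
      lin [a, b, c, d, e, f] (quadPerm j (act 3 ⟨2 ^ i.1 % 64, Nat.mod_lt _ (by decide)⟩)) =
        rotCode^[r.1 + 1] (act 3 (lin [a, b, c, d, e, f] (quadPerm j ⟨2 ^ i.1 % 64, Nat.mod_lt _ (by decide)⟩))) := by
  decide +kernel

theorem lin_id : ∀ v : Fin 64, lin [1, 2, 4, 8, 16, 32] v = v := by decide +kernel

end CfsgLib.Alt12Inv
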