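import Cfsg.Agent.Alt12Inv.Frame
import Mathlib.GroupTheory.Perm.Centralizer

/-!
A Sylow 2-subgroup of the centralizer in coordinates, its only elementary subgroup of order 64, and
normal forms for the involutions.
-/

set_option autoImplicit false
set_option linter.unusedSectionVars false
set_option linter.style.haveILetI false
set_option maxRecDepth 100000

namespace CfsgLib.Alt12Inv

open Equiv

/-- A digit with its two upper values exchanged. -/
def flDig (x : ℕ) : ℕ := if x = 2 then 3 else if x = 3 then 2 else x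

/-- A code from three digits. -/
def mkCode (a b c : ℕ) : Fin 64 := ⟨(a + 4 * b + 16 * c) % 64, Nat.mod_lt _ (by decide)⟩

/-- A bit of a small number. -/
def bit (k : Fin 8) (i : ℕ) : Bool := (k.1 / 2 ^ i) % 2 == 1

/-- The action of the complement on the codes. -/
def act (k : Fin 8) (w : Fin 64) : Fin 64 :=
  let d0 := if bit k 2 then dig w 1 else dig w 0
  let d1 := if bit k 2 then dig w 0 else dig w 1
  let d2 := dig w 2
  mkCode (if bit k 0 then flDig d0 else d0) (if bit k 1 then flDig d1 else d1)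
    (if xor (bit k 0) (bit k 1) then flDig d2 else d2)

/-- The product in the complement. -/
def km (k l : Fin 8) : Fin 8 :=
  let i := if bit k 2 then bit l 1 else bit l 0
  let j := if bit k 2 then bit l 0 else bit l 1
  ⟨((if xor (bit k 0) i then 1 else 0) + (if xor (bit k 1) j then 2 else 0) +
      (if xor (bit k 2) (bit l 2) then 4 else 0)) % 8, Nat.mod_lt _ (by decide)⟩

/-- The elements of the complement as maps of the twelve points. -/
def repFun (k : Fin 8) (i : Fin 12) : Fin 12 :=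
  let q : ℕ := if bit k 2 && decide (i.1 < 8) then (i.1 + 4) % 8 else i.1
  let b : ℕ := if bit k 1 then [0, 1, 2, 3, 5, 4, 6, 7, 9, 8, 10, 11].getD q 0 else q
  let a : ℕ := if bit k 0 then [1, 0, 2, 3, 4, 5, 6, 7, 9, 8, 10, 11].getD b 0 else b
  ⟨a % 12, Nat.mod_lt _ (by decide)⟩

/-- The inverse in the complement. -/
def kinv (k : Fin 8) : Fin 8 := ([0, 1, 2, 3, 4, 6, 5, 7] : List (Fin 8)).getD k.1 0

theorem kinv_spec : ∀ k, km k (kinv k) = 0 ∧ km (kinv k) k = 0 := by decide +kernel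

theorem repFun_km : ∀ k l i, repFun k (repFun l i) = repFun (km k l) i := by decide +kernel

theorem repFun_zero : ∀ i, repFun 0 i = i := by decide +kernel

theorem repFun_aFun : ∀ k w i, repFun k (aFun w i) = aFun (act k w) (repFun k i) := by decide +kernel

/-- The elements of the complement. -/
def rEl (k : Fin 8) : Perm (Fin 12) :=
  ⟨repFun k, repFun (kinv k),
    fun i => by rw [repFun_km, (kinv_spec k).2, repFun_zero],
    fun i => by rw [repFun_km, (kinv_spec k).1, repFun_zero]⟩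

theorem rEl_mem : ∀ k, rEl k ∈ C₀ := by
  simp only [mem_C₀, Perm.mem_alternatingGroup, Equiv.ext_iff, Perm.mul_apply]
  decide +kernel

/-- The elements of the complement in the centralizer. -/
def rC (k : Fin 8) : ↥C₀ := ⟨rEl k, rEl_mem k⟩

theorem rC_mul (k l : Fin 8) : rC k * rC l = rC (km k l) :=
  Subtype.ext (Equiv.ext fun i => repFun_km k l i)

theorem rC_aC (k : Fin 8) (w : Fin 64) : rC k * aC w = aC (act k w) * rC k :=
  Subtype.ext (Equiv.ext fun i => repFun_aFun k w i)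

theorem aC_zero : aC 0 = 1 := Subtype.ext (Equiv.ext (by decide +kernel : ∀ i, aFun 0 i = i))

theorem rC_zero : rC 0 = 1 := Subtype.ext (Equiv.ext fun i => repFun_zero i)

theorem vadd_facts : (∀ v, vadd v 0 = v) ∧ (∀ v, vadd 0 v = v) ∧ (∀ v, vadd v v = 0) := by decide +kernel

theorem aC_sq (v : Fin 64) : aC v * aC v = 1 := by rw [aC_mul, vadd_facts.2.2, aC_zero]

theorem aC_comm (v w : Fin 64) : aC v * aC w = aC w * aC v := by
  rw [aC_mul, aC_mul, (by decide +kernel : ∀ v w, vadd v w = vadd w v) v w]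

/-- An element of the Sylow subgroup. -/
def el (p : Fin 64 × Fin 8) : ↥C₀ := aC p.1 * rC p.2

/-- The product of two coded elements. -/
def mulC (p q : Fin 64 × Fin 8) : Fin 64 × Fin 8 := (vadd p.1 (act p.2 q.1), km p.2 q.2)

theorem el_mul (p q : Fin 64 × Fin 8) : el p * el q = el (mulC p q) := by
  show aC p.1 * rC p.2 * (aC q.1 * rC q.2) = aC (vadd p.1 (act p.2 q.1)) * rC (km p.2 q.2)
  rw [← aC_mul, ← rC_mul, mul_assoc, ← mul_assoc (rC p.2), rC_aC, mul_assoc, mul_assoc]

theorem el_injective : Function.Injective el := by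
  have inv : ∀ v k, mulC (v, k) (act (kinv k) v, kinv k) = (0, 0) ∧
      mulC (act (kinv k) v, kinv k) (v, k) = (0, 0) := by decide +kernel
  have key : ∀ k : Fin 8, ∀ v : Fin 64, (∀ i, aFun v (repFun k i) = i) → k = 0 := by decide +kernel
  have eq : ∀ k l : Fin 8, km k (kinv l) = 0 → k = l := by decide +kernel
  intro p q h
  have h1 : el (mulC p (act (kinv q.2) q.1, kinv q.2)) = 1 := by
    rw [← el_mul, h, el_mul, (inv q.1 q.2).1, el, aC_zero, rC_zero, one_mul]
  have hk : p.2 = q.2 := eq _ _ (key _ _ fun i => congrArg (fun x : ↥C₀ => (x : Perm (Fin 12)) i) h1)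
  have h6 : aC p.1 * rC p.2 = aC q.1 * rC q.2 := h
  rw [hk] at h6
  exact Prod.ext (aC_injective (mul_right_cancel h6)) hk

/-- The Sylow 2-subgroup. -/
def S₀ : Subgroup ↥C₀ where
  carrier := Set.range el
  one_mem' := ⟨(0, 0), by rw [el, aC_zero, rC_zero, one_mul]⟩
  mul_mem' := by rintro _ _ ⟨p, rfl⟩ ⟨q, rfl⟩; exact ⟨mulC p q, (el_mul p q).symm⟩
  inv_mem' := by
    rintro _ ⟨p, rfl⟩
    refine ⟨(act (kinv p.2) p.1, kinv p.2), eq_inv_of_mul_eq_one_right ?_⟩
    rw [el_mul, (by decide +kernel : ∀ v k, mulC (v, k) (act (kinv k) v, kinv k) = (0, 0)) p.1 p.2,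
      el, aC_zero, rC_zero, one_mul]

theorem card_S₀ : Nat.card ↥S₀ = 512 := by
  show Nat.card ↥(Set.range el) = 512
  rw [Nat.card_congr (Equiv.ofInjective el el_injective).symm, Nat.card_eq_fintype_card]
  decide

theorem t₀_eq : t₀ = aEl 21 := Equiv.ext (by decide +kernel : ∀ i, t₀ i = aFun 21 i)

theorem swap_comm_t₀ : swap (0 : Fin 12) 1 * t₀ = t₀ * swap 0 1 :=
  Equiv.ext (by decide +kernel : ∀ i, swap (0 : Fin 12) 1 (t₀ i) = t₀ (swap (0 : Fin 12) 1 i))

theorem card_C₀ : Nat.card ↥C₀ = 23040 := by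
  classical
  haveI : Fact (Nat.Prime 2) := ⟨Nat.prime_two⟩
  have ho : orderOf t₀ = 2 := orderOf_eq_prime
    (Equiv.ext (by decide +kernel : ∀ i, (t₀ ^ 2) i = i))
    (fun h => (by decide +kernel : t₀ 0 ≠ 0) (congrArg (fun x : Perm (Fin 12) => x 0) h))
  obtain ⟨n, hn⟩ := Perm.cycleType_prime_order (σ := t₀) (by rw [ho]; exact Nat.prime_two)
  have hsup : t₀.support.card = 12 := by decide +kernel
  rw [ho] at hn
  have hn' : n + 1 = 6 := by
    have := Perm.sum_cycleType t₀
    rw [hn, Multiset.sum_replicate, hsup, smul_eq_mul] at this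
    omega
  have hcc : Nat.card ↥(Subgroup.centralizer ({t₀} : Set (Perm (Fin 12)))) = 46080 := by
    rw [Perm.nat_card_centralizer, hn, hn']
    decide
  set H := Subgroup.centralizer ({t₀} : Set (Perm (Fin 12))) with hH
  let σ : ↥H →* ℤˣ := Perm.sign.comp H.subtype
  have hsur : Function.Surjective σ := by
    intro u
    rcases Int.units_eq_one_or u with rfl | rfl
    · exact ⟨1, map_one σ⟩
    · exact ⟨⟨swap 0 1, Subgroup.mem_centralizer_singleton_iff.2 swap_comm_t₀⟩,
        Perm.sign_swap (show (0 : Fin 12) ≠ 1 by decide)⟩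
  have h1 := σ.ker.card_mul_index
  rw [Subgroup.index_ker, MonoidHom.range_eq_top.2 hsur, Subgroup.card_top, hcc,
    show Nat.card ℤˣ = 2 by rw [Nat.card_eq_fintype_card, Fintype.card_units_int]] at h1
  have h2 : C₀ = σ.ker.map H.subtype := by
    ext x
    rw [C₀, Subgroup.mem_inf, Perm.mem_alternatingGroup, Subgroup.mem_map]
    constructor
    · rintro ⟨hs, hx⟩
      exact ⟨⟨x, hx⟩, hs, rfl⟩
    · rintro ⟨y, hy, rfl⟩
      exact ⟨hy, y.2⟩
  rw [h2, Subgroup.card_map_of_injective H.subtype_injective]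
  omega

theorem odd_index_S₀ : S₀.index = 45 := by
  have h := S₀.card_mul_index
  rw [card_S₀, card_C₀] at h
  omega

theorem isPGroup_S₀ : IsPGroup 2 ↥S₀ := IsPGroup.of_card (n := 9) (by rw [card_S₀]; norm_num)

theorem not_dvd_index : ¬ 2 ∣ S₀.index := by rw [odd_index_S₀]; decide

/-- The conjugators of the normal form, and their inverses. -/
def cF (j : Fin 7) (i : Fin 12) : Fin 12 :=
  ([[0, 1, 2, 3, 4, 5, 6, 7, 8, 9, 10, 11], [0, 1, 4, 5, 2, 3, 6, 7, 8, 9, 10, 11],
    [0, 1, 4, 5, 6, 7, 2, 3, 8, 9, 10, 11], [0, 1, 2, 3, 4, 5, 8, 9, 6, 7, 10, 11],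
    [0, 1, 2, 3, 4, 5, 8, 9, 10, 11, 6, 7], [0, 1, 4, 5, 8, 9, 10, 11, 2, 3, 6, 7],
    [0, 1, 4, 5, 8, 9, 10, 11, 6, 7, 2, 3]] : List (List (Fin 12))).getD j.1 [] |>.getD i.1 0

/-- Their inverses. -/
def cI (j : Fin 7) (i : Fin 12) : Fin 12 :=
  ([[0, 1, 2, 3, 4, 5, 6, 7, 8, 9, 10, 11], [0, 1, 4, 5, 2, 3, 6, 7, 8, 9, 10, 11],
    [0, 1, 6, 7, 2, 3, 4, 5, 8, 9, 10, 11], [0, 1, 2, 3, 4, 5, 8, 9, 6, 7, 10, 11],
    [0, 1, 2, 3, 4, 5, 10, 11, 6, 7, 8, 9], [0, 1, 8, 9, 2, 3, 10, 11, 4, 5, 6, 7],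
    [0, 1, 10, 11, 2, 3, 8, 9, 4, 5, 6, 7]] : List (List (Fin 12))).getD j.1 [] |>.getD i.1 0

theorem cF_inv : ∀ j i, cF j (cI j i) = i ∧ cI j (cF j i) = i := by decide +kernel

/-- A conjugator as a permutation. -/
def cEl (j : Fin 7) : Perm (Fin 12) :=
  ⟨cF j, cI j, fun i => (cF_inv j i).2, fun i => (cF_inv j i).1⟩

theorem cEl_mem : ∀ j, cEl j ∈ C₀ := by
  simp only [mem_C₀, Perm.mem_alternatingGroup, Equiv.ext_iff, Perm.mul_apply]
  decide +kernel

/-- The code of a conjugated element. -/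
def wOf (j : Fin 7) (p : Fin 64 × Fin 8) : Fin 64 :=
  let g : Fin 12 → ℕ := fun i => (cF j (aFun p.1 (repFun p.2 (cI j i)))).1 % 4
  mkCode (g 0) (g 4) (g 8)

theorem invol_chk : ∀ v k, mulC (v, k) (v, k) = (0, 0) →
    ∃ j : Fin 7, ∀ i, cF j (aFun v (repFun k (cI j i))) = aFun (wOf j (v, k)) i := by decide +kernel

/-- Every involution is conjugate to a translation. -/
theorem invol_conj (x : ↥C₀) (h : x * x = 1) : ∃ c v, c * x * c⁻¹ = aC v := by
  haveI : Fact (Nat.Prime 2) := ⟨Nat.prime_two⟩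
  have hP : IsPGroup 2 ↥(Subgroup.zpowers x) := fun y => by
    obtain ⟨k, hk⟩ := y.2
    refine ⟨1, Subtype.ext ?_⟩
    simp only [pow_one, sq, Subgroup.coe_mul, Subgroup.coe_one, ← hk]
    rw [← (Commute.refl x).mul_zpow, h, one_zpow]
  obtain ⟨Q, hQ⟩ := hP.exists_le_sylow
  obtain ⟨g, hg⟩ := MulAction.exists_smul_eq ↥C₀ Q (isPGroup_S₀.toSylow not_dvd_index)
  have hmem : g * x * g⁻¹ ∈ S₀ := by
    have h1 : MulAut.conj g • x ∈ ((g • Q : Sylow 2 ↥C₀) : Subgroup ↥C₀) :=
      Subgroup.smul_mem_pointwise_smul _ _ _ (hQ (Subgroup.mem_zpowers x))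
    rw [hg] at h1
    exact h1
  obtain ⟨p, hp⟩ := hmem
  have hsq : mulC p p = (0, 0) := el_injective (by
    rw [← el_mul, hp, show g * x * g⁻¹ * (g * x * g⁻¹) = g * (x * x) * g⁻¹ by group, h, mul_one,
      mul_inv_cancel, el, aC_zero, rC_zero, one_mul])
  obtain ⟨j, hj⟩ := invol_chk p.1 p.2 hsq
  refine ⟨⟨cEl j, cEl_mem j⟩ * g, wOf j p, Subtype.ext (Equiv.ext fun i => ?_)⟩
  have e : (⟨cEl j, cEl_mem j⟩ : ↥C₀) * g * x * ((⟨cEl j, cEl_mem j⟩ : ↥C₀) * g)⁻¹ =
      ⟨cEl j, cEl_mem j⟩ * el p * (⟨cEl j, cEl_mem j⟩ : ↥C₀)⁻¹ := by rw [hp]; group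
  rw [e]
  exact hj i

/-- The coded involutions. -/
def invols : List (Fin 64 × Fin 8) :=
  ((List.finRange 8).flatMap fun k => (List.finRange 64).map fun v => (v, k)).filter
    fun p => decide (p ≠ (0, 0) ∧ mulC p p = (0, 0))

/-- Commuting of coded elements. -/
def commC (p q : Fin 64 × Fin 8) : Bool := decide (mulC p q = mulC q p)

/-- The first round. -/
def round₁ : List (Fin 64 × Fin 8) := invols.filter fun p => 63 ≤ invols.countP (commC p)

theorem round_facts : invols.Nodup ∧ round₁.Nodup ∧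
    (∀ p ∈ round₁, 63 ≤ round₁.countP (commC p) → p.2 = 0) := by decide +kernel

/-- An elementary subgroup of order 64 of the Sylow subgroup consists of translations. -/
theorem elem_unique {E : Subgroup ↥C₀} (hE : E ≤ S₀) (hsq : ∀ x ∈ E, x * x = 1)
    (hc : Nat.card ↥E = 64) : ∀ x ∈ E, ∃ v, x = aC v := by
  classical
  set T : Finset (Fin 64 × Fin 8) := Finset.univ.filter fun p => el p ∈ E ∧ p ≠ (0, 0) with hT
  have hcardT : T.card = 63 := by
    have e : Finset.univ.filter (fun p => el p ∈ E) = insert (0, 0) T := by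
      ext p
      by_cases hp : p = (0, 0)
      · subst hp
        have h0 : el (0, 0) = 1 := by rw [el, aC_zero, rC_zero, one_mul]
        simp [h0]
      · simp [hT, hp]
    have hn : (0, 0) ∉ T := by simp [hT]
    have h64 : (Finset.univ.filter fun p => el p ∈ E).card = 64 := by
      rw [← Fintype.card_subtype, ← Nat.card_eq_fintype_card]
      refine Eq.trans ?_ hc
      refine Nat.card_congr (Equiv.ofBijective (fun p => ⟨el p.1, p.2⟩) ⟨fun p q h => ?_, fun x => ?_⟩)
      · exact Subtype.ext (el_injective (congrArg Subtype.val h))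
      · obtain ⟨p, hp⟩ := hE x.2
        exact ⟨⟨p, hp ▸ x.2⟩, Subtype.ext hp⟩
    rw [e, Finset.card_insert_of_notMem hn] at h64
    omega
  have hcomm : ∀ p ∈ T, ∀ q ∈ T, commC p q = true := by
    intro p hp q hq
    simp only [hT, Finset.mem_filter, Finset.mem_univ, true_and] at hp hq
    rw [commC, decide_eq_true_iff]
    refine el_injective ?_
    rw [← el_mul, ← el_mul]
    have h1 := eq_inv_of_mul_eq_one_left (hsq _ (mul_mem hp.1 hq.1))
    rw [mul_inv_rev, ← eq_inv_of_mul_eq_one_left (hsq _ hp.1),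
      ← eq_inv_of_mul_eq_one_left (hsq _ hq.1)] at h1
    exact h1
  have hinv : ∀ p ∈ T, p ∈ invols := by
    intro p hp
    simp only [hT, Finset.mem_filter, Finset.mem_univ, true_and] at hp
    simp only [invols, List.mem_filter, List.mem_flatMap, List.mem_finRange, List.mem_map, true_and,
      decide_eq_true_iff]
    refine ⟨⟨p.2, p.1, rfl⟩, hp.2, el_injective ?_⟩
    rw [← el_mul, hsq _ hp.1, el, aC_zero, rC_zero, one_mul]
  have hcount : ∀ (L : List (Fin 64 × Fin 8)), L.Nodup → (∀ p ∈ T, p ∈ L) → ∀ p ∈ T,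
      63 ≤ L.countP (commC p) := by
    intro L hL hsub p hp
    rw [List.countP_eq_length_filter, ← List.toFinset_card_of_nodup (hL.filter _), ← hcardT]
    refine Finset.card_le_card fun q hq => ?_
    rw [List.mem_toFinset, List.mem_filter]
    exact ⟨hsub q hq, hcomm p hp q hq⟩
  have h1 : ∀ p ∈ T, p ∈ round₁ := fun p hp => by
    rw [round₁, List.mem_filter, decide_eq_true_iff]
    exact ⟨hinv p hp, hcount _ round_facts.1 hinv p hp⟩
  intro x hx
  obtain ⟨p, rfl⟩ := hE hx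
  by_cases hp : p = (0, 0)
  · exact ⟨0, by rw [hp, el, rC_zero, mul_one]⟩
  have hpT : p ∈ T := by simp [hT, hx, hp]
  have := round_facts.2.2 p (h1 p hpT) (hcount _ round_facts.2.1 h1 p hpT)
  exact ⟨p.1, by rw [el, this, rC_zero, mul_one]⟩

end CfsgLib.Alt12Inv
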